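import Mathlib

/-!
# O'Nan configurations

A family of abelian `p`-groups `N z`, one for each point of a two-transitive group, each normal in
the point stabiliser and not semiregular on the other points.  Two of the groups meet trivially
and an element of one that fixes a second point fixes its whole orbit under the second group.
-/

set_option autoImplicit false
set_option linter.unusedSectionVars false
set_option linter.style.haveILetI false

namespace CfsgLib.ONan

universe u v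

/-- An O'Nan configuration. -/
structure Config (G : Type u) (X : Type v) [Group G] [MulAction G X] where
  /-- The group belonging to a point. -/
  N : X → Subgroup G
  /-- The exponent. -/
  p : ℕ
  hp : p.Prime
  fix : ∀ z, ∀ n ∈ N z, n • z = z
  conj : ∀ (g : G) z, ∀ n ∈ N z, g * n * g⁻¹ ∈ N (g • z)
  comm : ∀ z, ∀ a ∈ N z, ∀ b ∈ N z, a * b = b * a
  exp : ∀ z, ∀ a ∈ N z, a ^ p = 1
  nsr : ∀ z w, z ≠ w → ∃ n ∈ N z, n ≠ 1 ∧ n • w = w
  two : ∀ x y x' y' : X, x ≠ y → x' ≠ y' → ∃ g : G, g • x = x' ∧ g • y = y'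

variable {G : Type u} {X : Type v} [Group G] [MulAction G X] [Finite G] [FaithfulSMul G X]
  (I : Config G X)

namespace Config

/-- The stabiliser of `w` in the group of `z`. -/
def K (z w : X) : Subgroup G := I.N z ⊓ MulAction.stabilizer G w

theorem mem_K {z w : X} {n : G} : n ∈ I.K z w ↔ n ∈ I.N z ∧ n • w = w := by
  simp [K, Subgroup.mem_inf, MulAction.mem_stabilizer_iff]

theorem K_le (z w : X) : I.K z w ≤ I.N z := inf_le_left

theorem conj_iff (g : G) (z : X) (n : G) : g * n * g⁻¹ ∈ I.N (g • z) ↔ n ∈ I.N z := by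
  refine ⟨fun h => ?_, I.conj g z n⟩
  have := I.conj g⁻¹ _ _ h
  simpa [mul_assoc] using this

theorem map_N (g : G) (z : X) : (I.N z).map (MulAut.conj g).toMonoidHom = I.N (g • z) := by
  ext m
  refine ⟨?_, fun hm => ⟨g⁻¹ * m * g, ?_, by simp [mul_assoc]⟩⟩
  · rintro ⟨n, hn, rfl⟩
    exact I.conj g z n hn
  · simpa using I.conj g⁻¹ _ m hm

theorem map_stab (g : G) (w : X) :
    (MulAction.stabilizer G w).map (MulAut.conj g).toMonoidHom = MulAction.stabilizer G (g • w) :=
  (MulAction.stabilizer_smul_eq_stabilizer_map_conj g w).symm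

theorem map_K (g : G) (z w : X) :
    (I.K z w).map (MulAut.conj g).toMonoidHom = I.K (g • z) (g • w) := by
  rw [K, Subgroup.map_inf _ _ _ (MulAut.conj g).injective, I.map_N, map_stab]
  rfl

theorem card_K_eq {z w u v : X} (h : z ≠ w) (h' : u ≠ v) :
    Nat.card (I.K u v) = Nat.card (I.K z w) := by
  obtain ⟨g, rfl, rfl⟩ := I.two z w u v h h'
  rw [← I.map_K, Subgroup.card_map_of_injective (MulAut.conj g).injective]

theorem card_meet_eq {z w u v : X} (h : z ≠ w) (h' : u ≠ v) :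
    Nat.card (I.N u ⊓ I.N v : Subgroup G) = Nat.card (I.N z ⊓ I.N w : Subgroup G) := by
  obtain ⟨g, rfl, rfl⟩ := I.two z w u v h h'
  rw [← I.map_N, ← I.map_N, ← Subgroup.map_inf _ _ _ (MulAut.conj g).injective,
    Subgroup.card_map_of_injective (MulAut.conj g).injective]

theorem card_N_eq [Nontrivial X] (z w : X) : Nat.card (I.N w) = Nat.card (I.N z) := by
  obtain ⟨z', hz⟩ := exists_ne z
  obtain ⟨w', hw⟩ := exists_ne w
  obtain ⟨g, rfl, -⟩ := I.two z z' w w' hz.symm hw.symm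
  rw [← I.map_N, Subgroup.card_map_of_injective (MulAut.conj g).injective]

/-- Two of the groups meet trivially. -/
theorem ti {z w : X} (hzw : z ≠ w) {d : G} (hz : d ∈ I.N z) (hw : d ∈ I.N w) : d = 1 := by
  have eqD : ∀ {a b a' b' : X}, a ≠ b → a' ≠ b' → I.N a ⊓ I.N b ≤ I.N a' ⊓ I.N b' →
      I.N a ⊓ I.N b = I.N a' ⊓ I.N b' := fun ha hb h =>
    Subgroup.eq_of_le_of_card_ge h (I.card_meet_eq ha hb).le
  have move : ∀ {a b : X}, ∀ e ∈ I.N a, I.N a ⊓ I.N b ≤ I.N (e • b) := by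
    intro a b e he c hc
    have h := I.conj e b c hc.2
    rwa [I.comm a e he c hc.1, mul_inv_cancel_right] at h
  refine eq_of_smul_eq_smul fun t : X => ?_
  rw [one_smul]
  by_cases ht : I.N z ⊓ I.N w ≤ I.N t
  · exact I.fix t d (ht ⟨hz, hw⟩)
  by_contra hdt
  have htz : z ≠ t := fun e => ht (e ▸ inf_le_left)
  have htw : w ≠ t := fun e => ht (e ▸ inf_le_right)
  have h1 : I.N z ⊓ I.N t = I.N t ⊓ I.N (d • t) :=
    eqD htz (Ne.symm hdt) (le_inf inf_le_right (move d hz))
  have h2 : I.N w ⊓ I.N t = I.N t ⊓ I.N (d • t) :=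
    eqD htw (Ne.symm hdt) (le_inf inf_le_right (move d hw))
  have h3 : I.N z ⊓ I.N t = I.N z ⊓ I.N w :=
    eqD htz hzw (le_inf inf_le_left ((h1.trans h2.symm).le.trans inf_le_left))
  exact ht (h3 ▸ inf_le_right)

/-- Whatever centralises a nontrivial element of the group of `z` fixes `z`. -/
theorem cent_fix {z : X} {n g : G} (hn : n ∈ I.N z) (h1 : n ≠ 1) (h : g * n = n * g) :
    g • z = z := by
  by_contra hne
  have hc := I.conj g z n hn
  rw [h, mul_inv_cancel_right] at hc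
  exact h1 (I.ti hne hc hn)

theorem commute_of_fix {z w : X} (hzw : z ≠ w) {n m : G} (hn : n ∈ I.N z) (hnw : n • w = w)
    (hm : m ∈ I.N w) (hmz : m • z = z) : n * m = m * n := by
  have a := I.conj n w m hm
  rw [hnw] at a
  have b := I.conj m z n⁻¹ (inv_mem hn)
  rw [hmz] at b
  have h1 : n * m * n⁻¹ * m⁻¹ = 1 := I.ti hzw
    (by
      have := mul_mem hn b
      simpa [mul_assoc] using this)
    (mul_mem a (inv_mem hm))
  rw [mul_inv_eq_one, mul_inv_eq_iff_eq_mul] at h1
  exact h1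

theorem orderOf_eq {z : X} {n : G} (hn : n ∈ I.N z) (h1 : n ≠ 1) : orderOf n = I.p := by
  haveI : Fact I.p.Prime := ⟨I.hp⟩
  exact orderOf_eq_prime (I.exp z n hn) h1

theorem dvd_card_K {z w : X} (h : z ≠ w) : I.p ∣ Nat.card (I.K z w) := by
  obtain ⟨n, hn, h1, hw⟩ := I.nsr z w h
  rw [← I.orderOf_eq hn h1]
  exact Subgroup.orderOf_dvd_natCard _ (I.mem_K.2 ⟨hn, hw⟩)

theorem one_lt_card_K {z w : X} (h : z ≠ w) : 1 < Nat.card (I.K z w) :=
  lt_of_lt_of_le I.hp.one_lt (Nat.le_of_dvd Nat.card_pos (I.dvd_card_K h))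

/-- If one nontrivial element fixing `z, w` fixes a point of the orbit, all of them do. -/
theorem fix_of_fix {z w : X} (hzw : z ≠ w) {n n' b : G} (hn : n ∈ I.K z w) (h1 : n ≠ 1)
    (hn' : n' ∈ I.K z w) (hb : b ∈ I.N w) (hfix : n • b • z = b • z) :
    n' • b • z = b • z := by
  obtain ⟨hnz, hnw⟩ := I.mem_K.1 hn
  obtain ⟨hn'z, hn'w⟩ := I.mem_K.1 hn'
  set β := b⁻¹ * (n * b * n⁻¹) with hβdef
  set β' := b⁻¹ * (n' * b * n'⁻¹) with hβ'def
  have hβ : β ∈ I.N w := mul_mem (inv_mem hb) (hnw ▸ I.conj n w b hb)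
  have hβ' : β' ∈ I.N w := mul_mem (inv_mem hb) (hn'w ▸ I.conj n' w b hb)
  have hfz : ∀ m : G, m ∈ I.N z → m⁻¹ • z = z := fun m hm => I.fix z _ (inv_mem hm)
  have hβz : β • z = z := by
    rw [hβdef]; simp only [mul_smul]; rw [hfz n hnz, hfix, inv_smul_smul]
  have hβn' : n' * β = β * n' := I.commute_of_fix hzw hn'z hn'w hβ hβz
  have e1 : n * b * n⁻¹ = b * β := by rw [hβdef]; group
  have e2 : n' * b * n'⁻¹ = b * β' := by rw [hβ'def]; group
  have hnn : n * n' = n' * n := I.comm z n hnz n' hn'z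
  have key : β * (n * β' * n⁻¹) = β * β' := by
    refine mul_left_cancel (a := b) ?_
    calc b * (β * (n * β' * n⁻¹))
        = (n * b * n⁻¹) * (n * β' * n⁻¹) := by rw [e1]; group
      _ = n * (n' * b * n'⁻¹) * n⁻¹ := by rw [e2]; group
      _ = (n * n') * b * (n * n')⁻¹ := by group
      _ = (n' * n) * b * (n' * n)⁻¹ := by rw [hnn]
      _ = n' * (n * b * n⁻¹) * n'⁻¹ := by group
      _ = (n' * b * n'⁻¹) * (n' * β * n'⁻¹) := by rw [e1]; group
      _ = b * β' * β := by rw [e2, hβn', mul_inv_cancel_right]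
      _ = b * (β * β') := by rw [mul_assoc, I.comm w β' hβ' β hβ]
  have hc : n * β' * n⁻¹ = β' := mul_left_cancel key
  have hz : β' • z = z := I.cent_fix hnz h1 (mul_inv_eq_iff_eq_mul.1 hc).symm
  calc n' • b • z = (b * β') • z := by
        rw [← e2]; simp only [mul_smul]; rw [hfz n' hn'z]
    _ = b • z := by rw [mul_smul, hz]

/-- An element of the group of `z` fixing `w` fixes the orbit of `z` under the group of `w`. -/
theorem fix_orbit {z w : X} (hzw : z ≠ w) {n b : G} (hn : n ∈ I.K z w) (hb : b ∈ I.N w) :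
    n • b • z = b • z := by
  classical
  rcases eq_or_ne (b • z) z with hu | hu
  · rw [hu]; exact I.fix z n (I.mem_K.1 hn).1
  obtain ⟨l, hl, hl1, hlz⟩ := I.nsr w z hzw.symm
  have hlu : l • b • z = b • z := by rw [← mul_smul, I.comm w l hl b hb, mul_smul, hlz]
  have hinv : ∀ m ∈ I.K z (b • z), l * m * l⁻¹ ∈ I.K z (b • z) := by
    intro m hm
    have := Subgroup.mem_map_of_mem (MulAut.conj l).toMonoidHom hm
    rwa [I.map_K, hlz, hlu] at this
  have hinv' : ∀ m ∈ I.K z (b • z), l⁻¹ * m * l ∈ I.K z (b • z) := by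
    intro m hm
    have := Subgroup.mem_map_of_mem (MulAut.conj l⁻¹).toMonoidHom hm
    rw [I.map_K, inv_smul_eq_iff.2 hlz.symm, inv_smul_eq_iff.2 hlu.symm] at this
    simpa using this
  let σ : Equiv.Perm (I.K z (b • z)) :=
    { toFun := fun m => ⟨_, hinv m m.2⟩
      invFun := fun m => ⟨_, hinv' m m.2⟩
      left_inv := fun m => Subtype.ext (by simp [mul_assoc])
      right_inv := fun m => Subtype.ext (by simp [mul_assoc]) }
  have hpow : ∀ (j : ℕ) (m : I.K z (b • z)), ((σ ^ j) m : G) = l ^ j * m * (l ^ j)⁻¹ := by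
    intro j
    induction j with
    | zero => intro m; simp
    | succ j ih =>
      intro m
      rw [pow_succ', Equiv.Perm.mul_apply]
      show l * ((σ ^ j) m : G) * l⁻¹ = _
      rw [ih]
      group
  haveI : Fact I.p.Prime := ⟨I.hp⟩
  haveI := Fintype.ofFinite (I.K z (b • z))
  have hσ : σ ^ I.p ^ 1 = 1 := by
    refine Equiv.ext fun m => Subtype.ext ?_
    rw [pow_one, hpow, I.exp w l hl]
    simp
  obtain ⟨m, hm, hm1⟩ := Equiv.Perm.exists_fixed_point_of_prime'
    (by rw [← Nat.card_eq_fintype_card]; exact I.dvd_card_K hu.symm) hσ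
    (a := (1 : I.K z (b • z))) (Subtype.ext (by simp [σ]))
  have hm' : l * (m : G) * l⁻¹ = m := congrArg Subtype.val hm
  have hm1' : (m : G) ≠ 1 := fun e => hm1 (Subtype.ext e)
  have hmw : (m : G) • w = w := I.cent_fix hl hl1 (mul_inv_eq_iff_eq_mul.1 hm').symm
  exact I.fix_of_fix hzw (I.mem_K.2 ⟨(I.mem_K.1 m.2).1, hmw⟩) hm1' hn hb (I.mem_K.1 m.2).2

end Config

end CfsgLib.ONan
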