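import Cfsg.Agent.Lib.ONan.Lines

/-!
# Counting in an O'Nan configuration

The group of a point is transitive on the other points of each line through it, and if the
stabilisers of two lines through a point differ then they cover the group in the pattern of a
projective plane.
-/

set_option autoImplicit false
set_option linter.unusedSectionVars false
set_option linter.style.haveILetI false

namespace CfsgLib.ONan

universe u v

open Finset

variable {G : Type u} {X : Type v} [Group G] [MulAction G X] [Finite G] [FaithfulSMul G X]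
  [Finite X] (I : Config G X)

/-- A subgroup as a finite set. -/
noncomputable def fin (H : Subgroup G) : Finset G := (H : Set G).toFinite.toFinset

theorem mem_fin {H : Subgroup G} {g : G} : g ∈ fin H ↔ g ∈ H := by simp [fin]

theorem card_fin (H : Subgroup G) : (fin H).card = Nat.card H :=
  (Nat.card_eq_card_finite_toFinset _).symm

namespace Config

/-- A line as a finite set. -/
noncomputable def pts (u v : X) : Finset X := (I.line u v).toFinite.toFinset

theorem mem_pts {u v x : X} : x ∈ I.pts u v ↔ x ∈ I.line u v := by simp [pts]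

theorem card_pts_eq {u v u' v' : X} (h : u ≠ v) (h' : u' ≠ v') :
    (I.pts u' v').card = (I.pts u v).card := by
  classical
  obtain ⟨g, rfl, rfl⟩ := I.two u v u' v' h h'
  rw [← card_image_of_injective (I.pts u v) (MulAction.injective g)]
  congr 1
  ext x
  rw [mem_pts, mem_image]
  constructor
  · intro hx
    exact ⟨g⁻¹ • x, I.mem_pts.2 ((I.smul_mem_line g).1 (by rwa [smul_inv_smul])), smul_inv_smul _ _⟩
  · rintro ⟨y, hy, rfl⟩
    exact (I.smul_mem_line g).2 (I.mem_pts.1 hy)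

/-- The size of an orbit of the group of `z`. -/
noncomputable def orb (z w : X) : ℕ := Nat.card (MulAction.orbit (I.N z) w)

theorem card_N {z w : X} : Nat.card (I.N z) = I.orb z w * Nat.card (I.K z w) := by
  have e : Nat.card (MulAction.stabilizer (I.N z) w) = Nat.card (I.K z w) :=
    Nat.card_congr
      { toFun := fun n => ⟨n.1.1, I.mem_K.2 ⟨n.1.2, n.2⟩⟩
        invFun := fun n => ⟨⟨n.1, (I.mem_K.1 n.2).1⟩, (I.mem_K.1 n.2).2⟩
        left_inv := fun _ => rfl
        right_inv := fun _ => rfl }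
  rw [orb, ← e, ← Nat.card_prod]
  exact Nat.card_congr (MulAction.orbitProdStabilizerEquivGroup (I.N z) w).symm

theorem orb_eq [Nontrivial X] {z w u v : X} (h : z ≠ w) (h' : u ≠ v) :
    I.orb u v = I.orb z w := by
  refine Nat.eq_of_mul_eq_mul_right (Nat.card_pos (α := I.K z w)) ?_
  rw [← I.card_N (w := w), ← I.card_N_eq z u, I.card_N (w := v), I.card_K_eq h h']

/-- Some pair of lines through a point has different stabilisers. -/
theorem exists_K_ne {z w : X} (h : z ≠ w) : ∃ t, t ≠ z ∧ I.K z t ≠ I.K z w := by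
  by_contra hcon
  push Not at hcon
  obtain ⟨n, hn, h1, hnw⟩ := I.nsr z w h
  refine h1 (eq_of_smul_eq_smul fun t : X => ?_)
  rw [one_smul]
  rcases eq_or_ne t z with rfl | ht
  · exact I.fix t n hn
  · have : n ∈ I.K z t := hcon t ht ▸ I.mem_K.2 ⟨hn, hnw⟩
    exact (I.mem_K.1 this).2

theorem exists_moved {z w : X} (h : z ≠ w) : ∃ a ∈ I.N z, a • w ≠ w := by
  by_contra hcon
  push Not at hcon
  obtain ⟨t, ht, hne⟩ := I.exists_K_ne h
  refine hne (Subgroup.eq_of_le_of_card_ge (fun n hn => ?_) (I.card_K_eq ht.symm h).le)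
  exact I.mem_K.2 ⟨I.K_le _ _ hn, hcon n (I.K_le _ _ hn)⟩

theorem not_mem_line_of_ne {z u v : X} (hu : u ≠ z) (hv : v ≠ z) (hne : I.K z u ≠ I.K z v) :
    z ∉ I.line u v := by
  intro hz
  have huv : u ≠ v := fun e => hne (e ▸ rfl)
  have h1 : v ∈ I.line z u := by
    rw [I.line_eq huv hz (I.left_mem_line u v) hu.symm]
    exact I.right_mem_line huv
  exact hne (I.K_eq_of_mem hu.symm h1 hv).symm

theorem pair_inf {z u v a b : X} (hne : I.K z u ≠ I.K z v) (hab : a ≠ b)
    (ha : a ∈ I.line u v) (hb : b ∈ I.line u v) :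
    I.K z a ⊓ I.K z b = I.K z u ⊓ I.K z v := by
  have huv : u ≠ v := fun e => hne (e ▸ rfl)
  ext n
  simp only [Subgroup.mem_inf, I.mem_K]
  constructor
  · rintro ⟨⟨hn, h1⟩, -, h2⟩
    have e := I.line_eq huv ha hb hab
    exact ⟨⟨hn, I.two_line hn hab h1 h2 (e ▸ I.left_mem_line u v)⟩,
      hn, I.two_line hn hab h1 h2 (e ▸ I.right_mem_line huv)⟩
  · rintro ⟨⟨hn, h1⟩, -, h2⟩
    exact ⟨⟨hn, I.two_line hn huv h1 h2 ha⟩, hn, I.two_line hn huv h1 h2 hb⟩

theorem mem_K_of_fix {z u v a : X} (hne : I.K z u ≠ I.K z v) (ha : a ∈ I.line u v) {n : G}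
    (hn : n ∈ I.K z u ⊓ I.K z v) : n ∈ I.K z a := by
  have huv : u ≠ v := fun e => hne (e ▸ rfl)
  exact I.mem_K.2 ⟨I.K_le _ _ hn.1, I.two_line (I.K_le _ _ hn.1) huv (I.mem_K.1 hn.1).2
    (I.mem_K.1 hn.2).2 ha⟩

theorem card_inf_lt {z u v : X} (hu : u ≠ z) (hv : v ≠ z) (hne : I.K z u ≠ I.K z v) :
    2 * Nat.card (I.K z u ⊓ I.K z v : Subgroup G) ≤ Nat.card (I.K z u) := by
  obtain ⟨c, hc⟩ := Subgroup.card_dvd_of_le
    (inf_le_left : I.K z u ⊓ I.K z v ≤ I.K z u)
  rw [hc, mul_comm 2]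
  refine Nat.mul_le_mul le_rfl ?_
  by_contra hlt
  have hc1 : c = 1 := by
    have : 0 < c := Nat.pos_of_mul_pos_left (hc ▸ Nat.card_pos (α := I.K z u))
    omega
  rw [hc1, mul_one] at hc
  have h1 : I.K z u ⊓ I.K z v = I.K z u := Subgroup.eq_of_le_of_card_ge inf_le_left hc.le
  exact hne (Subgroup.eq_of_le_of_card_ge (inf_eq_left.1 h1) (I.card_K_eq hu.symm hv.symm).le)

/-- The stabilisers along a line not through `z`. -/
theorem line_count {z u v : X} (hu : u ≠ z) (hv : v ≠ z) (hne : I.K z u ≠ I.K z v) :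
    (I.pts u v).card * (Nat.card (I.K z u) - Nat.card (I.K z u ⊓ I.K z v : Subgroup G)) ≤
        Nat.card (I.N z) - Nat.card (I.K z u ⊓ I.K z v : Subgroup G) ∧
      ((I.pts u v).card * (Nat.card (I.K z u) - Nat.card (I.K z u ⊓ I.K z v : Subgroup G)) =
        Nat.card (I.N z) - Nat.card (I.K z u ⊓ I.K z v : Subgroup G) →
          ∀ n ∈ I.N z, ∃ a ∈ I.line u v, n • a = a) := by
  classical
  have hzl := I.not_mem_line_of_ne hu hv hne
  set D := I.K z u ⊓ I.K z v with hD
  set T : X → Finset G := fun a => fin (I.K z a) \ fin D with hT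
  have hsub : ∀ a ∈ I.pts u v, D ≤ I.K z a := fun a ha n hn =>
    I.mem_K_of_fix hne (I.mem_pts.1 ha) hn
  have hcard : ∀ a ∈ I.pts u v, (T a).card = Nat.card (I.K z u) - Nat.card D := by
    intro a ha
    have haz : a ≠ z := fun e => hzl (e ▸ I.mem_pts.1 ha)
    simp only [hT]
    rw [card_sdiff_of_subset (fun n hn => mem_fin.2 (hsub a ha (mem_fin.1 hn))), card_fin,
      card_fin, I.card_K_eq hu.symm haz.symm]
  have hdisj : (↑(I.pts u v) : Set X).PairwiseDisjoint T := by
    intro a ha b hb hab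
    refine disjoint_left.2 fun n hna hnb => ?_
    simp only [hT, mem_sdiff, mem_fin] at hna hnb
    have := I.pair_inf hne hab (I.mem_pts.1 ha) (I.mem_pts.1 hb)
    exact hna.2 (show n ∈ D by rw [hD, ← this]; exact ⟨hna.1, hnb.1⟩)
  have hle : (I.pts u v).biUnion T ⊆ fin (I.N z) \ fin D := by
    intro n hn
    simp only [mem_biUnion, hT, mem_sdiff, mem_fin] at hn ⊢
    obtain ⟨a, -, h1, h2⟩ := hn
    exact ⟨I.K_le _ _ h1, h2⟩
  have hcT : ((I.pts u v).biUnion T).card =
      (I.pts u v).card * (Nat.card (I.K z u) - Nat.card D) := by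
    rw [card_biUnion hdisj, sum_congr rfl hcard, sum_const, smul_eq_mul]
  have hcN : (fin (I.N z) \ fin D).card = Nat.card (I.N z) - Nat.card D := by
    rw [card_sdiff_of_subset (fun n hn => mem_fin.2 (I.K_le _ _ ((inf_le_left : D ≤ I.K z u) (mem_fin.1 hn)))), card_fin,
      card_fin]
  refine ⟨by rw [← hcT, ← hcN]; exact card_le_card hle, fun heq n hn => ?_⟩
  have huv : u ≠ v := fun e => hne (e ▸ rfl)
  by_cases hnD : n ∈ D
  · exact ⟨u, I.left_mem_line u v, (I.mem_K.1 hnD.1).2⟩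
  have hall := eq_of_subset_of_card_le hle (by rw [hcT, hcN, heq])
  have hmem : n ∈ fin (I.N z) \ fin D := mem_sdiff.2 ⟨mem_fin.2 hn, fun h => hnD (mem_fin.1 h)⟩
  rw [← hall, mem_biUnion] at hmem
  obtain ⟨a, ha, hna⟩ := hmem
  simp only [hT, mem_sdiff, mem_fin] at hna
  exact ⟨a, I.mem_pts.1 ha, (I.mem_K.1 hna.1).2⟩

/-- The group of a point is transitive on the other points of each line through it. -/
theorem trans_line {z w u : X} (h : z ≠ w) (hu : u ∈ I.line z w) (huz : u ≠ z) :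
    ∃ a ∈ I.N z, a • w = u := by
  classical
  haveI : Nontrivial X := ⟨⟨z, w, h⟩⟩
  by_contra hno
  set Ow := (MulAction.orbit (I.N z) w).toFinite.toFinset with hOw
  set Ou := (MulAction.orbit (I.N z) u).toFinite.toFinset with hOu
  have mem_orbit : ∀ {x y : X}, x ∈ MulAction.orbit (I.N z) y → ∃ a ∈ I.N z, a • y = x := by
    rintro x y ⟨a, rfl⟩
    exact ⟨a, a.2, rfl⟩
  have hline : I.line z u = I.line z w := I.line_eq h (I.left_mem_line z w) hu huz.symm
  have hdis : Disjoint Ow Ou := by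
    refine disjoint_left.2 fun x hx hx' => hno ?_
    simp only [hOw, hOu, Set.Finite.mem_toFinset] at hx hx'
    obtain ⟨a, ha, rfl⟩ := mem_orbit hx
    obtain ⟨b, hb, hab⟩ := mem_orbit hx'
    exact ⟨b⁻¹ * a, mul_mem (inv_mem hb) ha, by rw [mul_smul, ← hab, inv_smul_smul]⟩
  have hzm : z ∉ Ow ∪ Ou := by
    intro hm
    simp only [mem_union, hOw, hOu, Set.Finite.mem_toFinset] at hm
    rcases hm with hm | hm <;> obtain ⟨a, ha, haw⟩ := mem_orbit hm
    · exact I.smul_ne ha h.symm haw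
    · exact I.smul_ne ha huz haw
  have hsub : insert z (Ow ∪ Ou) ⊆ I.pts z w := by
    intro x hx
    rw [mem_pts]
    simp only [mem_insert, mem_union, hOw, hOu, Set.Finite.mem_toFinset] at hx
    rcases hx with rfl | hx | hx
    · exact I.left_mem_line _ _
    · obtain ⟨a, ha, rfl⟩ := mem_orbit hx
      exact I.smul_mem_line_self h ha (I.right_mem_line h)
    · obtain ⟨a, ha, rfl⟩ := mem_orbit hx
      exact I.smul_mem_line_self h ha hu
  have h2s : 2 * I.orb z w + 1 ≤ (I.pts z w).card := by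
    refine le_trans (le_of_eq ?_) (card_le_card hsub)
    rw [card_insert_of_notMem hzm, card_union_of_disjoint hdis]
    have e1 : Ow.card = I.orb z w := (Nat.card_eq_card_finite_toFinset _).symm
    have e2 : Ou.card = I.orb z u := (Nat.card_eq_card_finite_toFinset _).symm
    rw [e1, e2, I.orb_eq h huz.symm]
    omega
  obtain ⟨t, ht, hne⟩ := I.exists_K_ne h
  have h1 := (I.line_count h.symm ht (Ne.symm hne)).1
  have hd := I.card_inf_lt h.symm ht (Ne.symm hne)
  rw [I.card_pts_eq h (show w ≠ t from fun e => hne (by rw [e])), I.card_N (w := w)] at h1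
  set k := Nat.card (I.K z w)
  set d := Nat.card (I.K z w ⊓ I.K z t : Subgroup G)
  have hd0 : 0 < d := Nat.card_pos
  obtain ⟨e, he, hke⟩ : ∃ e, d ≤ e ∧ k = d + e := ⟨k - d, by omega, by omega⟩
  rw [show k - d = e by omega, hke] at h1
  have h3 : (2 * I.orb z w + 1) * e ≤ I.orb z w * (d + e) - d :=
    le_trans (Nat.mul_le_mul_right e h2s) h1
  have h4 : I.orb z w * d ≤ I.orb z w * e := Nat.mul_le_mul_left _ he
  have h5 : I.orb z w * (d + e) - d < I.orb z w * (d + e) + e := by omega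
  nlinarith

theorem card_pts {z w : X} (h : z ≠ w) : (I.pts z w).card = I.orb z w + 1 := by
  classical
  have hins : I.pts z w = insert z (MulAction.orbit (I.N z) w).toFinite.toFinset := by
    ext x
    rw [mem_pts, mem_insert, Set.Finite.mem_toFinset]
    constructor
    · intro hx
      rcases eq_or_ne x z with rfl | hxz
      · exact Or.inl rfl
      · obtain ⟨a, ha, rfl⟩ := I.trans_line h hx hxz
        exact Or.inr ⟨⟨a, ha⟩, rfl⟩
    · rintro (rfl | ⟨a, rfl⟩)
      · exact I.left_mem_line _ _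
      · exact I.smul_mem_line_self h a.2 (I.right_mem_line h)
  rw [hins, card_insert_of_notMem, orb, ← Nat.card_eq_card_finite_toFinset]
  rw [Set.Finite.mem_toFinset]
  rintro ⟨a, ha⟩
  exact I.smul_ne a.2 h.symm ha

theorem two_le_orb {z w : X} (h : z ≠ w) : 2 ≤ I.orb z w := by
  obtain ⟨a, ha, haw⟩ := I.exists_moved h
  have : Nontrivial (MulAction.orbit (I.N z) w) :=
    ⟨⟨⟨a • w, ⟨⟨a, ha⟩, rfl⟩⟩, ⟨w, MulAction.mem_orbit_self w⟩, fun e => haw (congrArg Subtype.val e)⟩⟩
  exact Finite.one_lt_card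

/-- The commutator of `a ∈ N z` with an element fixing `z` and `w`. -/
theorem comm_mem {z w : X} (h : z ≠ w) {a l : G} (ha : a ∈ I.N z) (hl : l ∈ I.K w z) :
    a⁻¹ * (l * a * l⁻¹) ∈ I.K z w := by
  obtain ⟨hlw, hlz⟩ := I.mem_K.1 hl
  have h1 : l * a * l⁻¹ ∈ I.N z := by simpa [hlz] using I.conj l z a ha
  refine I.mem_K.2 ⟨mul_mem (inv_mem ha) h1, ?_⟩
  simp only [mul_smul]
  rw [I.fix w _ (inv_mem hlw), I.fix_orbit h.symm hl ha, inv_smul_smul]

theorem comm_injective {z w : X} (h : z ≠ w) {a l l' : G} (ha : a ∈ I.N z) (haw : a • w ≠ w)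
    (hl : l ∈ I.K w z) (hl' : l' ∈ I.K w z)
    (he : a⁻¹ * (l * a * l⁻¹) = a⁻¹ * (l' * a * l'⁻¹)) : l = l' := by
  by_contra hne
  have he' : l * a * l⁻¹ = l' * a * l'⁻¹ := mul_left_cancel he
  refine haw (I.cent_fix (n := l'⁻¹ * l) (mul_mem (inv_mem (I.K_le _ _ hl')) (I.K_le _ _ hl))
    (fun e => hne (inv_mul_eq_one.1 e).symm) ?_)
  calc a * (l'⁻¹ * l) = l'⁻¹ * (l' * a * l'⁻¹) * l := by group
    _ = l'⁻¹ * (l * a * l⁻¹) * l := by rw [he']
    _ = l'⁻¹ * l * a := by group

theorem comm_fix {z w t : X} (h : z ≠ w) (htz : t ≠ z) (hw : w ∉ I.line z t) {a l : G}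
    (ha : a ∈ I.N z) (hl : l ∈ I.K w z) (hlt : l • t = t) :
    a⁻¹ * (l * a * l⁻¹) ∈ I.K z w ⊓ I.K z t := by
  refine ⟨I.comm_mem h ha hl, I.mem_K.2 ⟨I.K_le _ _ (I.comm_mem h ha hl), ?_⟩⟩
  have h1 : l • a • t = a • t :=
    I.two_line (I.mem_K.1 hl).1 htz.symm (I.mem_K.1 hl).2 hlt
      (I.smul_mem_line_self htz.symm ha (I.right_mem_line htz.symm))
  simp only [mul_smul]
  rw [inv_smul_eq_iff.2 hlt.symm, h1, inv_smul_smul]

theorem card_stab_le {z w t : X} (h : z ≠ w) (htz : t ≠ z) (hw : w ∉ I.line z t) :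
    Nat.card (I.K w z ⊓ MulAction.stabilizer G t : Subgroup G) ≤
      Nat.card (I.K z w ⊓ I.K z t : Subgroup G) := by
  obtain ⟨a, ha, haw⟩ := I.exists_moved h
  refine Nat.card_le_card_of_injective
    (fun l : (I.K w z ⊓ MulAction.stabilizer G t : Subgroup G) =>
      (⟨_, I.comm_fix h htz hw ha l.2.1 (MulAction.mem_stabilizer_iff.1 l.2.2)⟩ :
        (I.K z w ⊓ I.K z t : Subgroup G))) ?_
  intro l l' e
  exact Subtype.ext (I.comm_injective h ha haw l.2.1 l'.2.1 (congrArg Subtype.val e))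

theorem inf_eq_stab {z w t : X} :
    I.K z w ⊓ MulAction.stabilizer G t = I.K z w ⊓ I.K z t := by
  ext n
  simp only [Subgroup.mem_inf, I.mem_K, MulAction.mem_stabilizer_iff]
  tauto

theorem card_stab_eq {z w t : X} (h : z ≠ w) (htz : t ≠ z) (htw : t ≠ w)
    (hw : w ∉ I.line z t) (hz : z ∉ I.line w t) :
    Nat.card (I.K w z ⊓ MulAction.stabilizer G t : Subgroup G) =
      Nat.card (I.K z w ⊓ I.K z t : Subgroup G) := by
  refine le_antisymm (I.card_stab_le h htz hw) ?_
  have := I.card_stab_le h.symm htw hz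
  rwa [← I.inf_eq_stab (z := w), I.inf_eq_stab] at this

theorem not_mem_of_not_mem {z w t : X} (htz : t ≠ z) (htw : t ≠ w)
    (hw : w ∉ I.line z t) : z ∉ I.line w t := fun hz => hw (by
  have := I.line_eq htw.symm hz (I.right_mem_line htw.symm) htz.symm
  exact this ▸ I.left_mem_line w t)

/-- Two different stabilisers at a point meet in a subgroup of index the orbit size. -/
theorem card_inf {z w t : X} (hw : w ≠ z) (ht : t ≠ z) (hne : I.K z w ≠ I.K z t) :
    Nat.card (I.K z w ⊓ I.K z t : Subgroup G) * I.orb z w = Nat.card (I.K z w) := by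
  classical
  have hzl := I.not_mem_line_of_ne hw ht hne
  have htw : t ≠ w := fun e => hne (e ▸ rfl)
  have hwl : w ∉ I.line z t := fun hwm => hne (I.K_eq_of_mem ht.symm hwm hw)
  haveI : Nontrivial X := ⟨⟨z, w, hw.symm⟩⟩
  have heq := I.card_stab_eq hw.symm ht htw hwl hzl
  have hd := I.card_inf_lt hw ht hne
  have hd0 : 0 < Nat.card (I.K z w ⊓ I.K z t : Subgroup G) := Nat.card_pos
  -- the upper bound
  have h1 := (I.line_count hw ht hne).1
  rw [I.card_pts_eq hw.symm htw.symm, I.card_pts hw.symm, I.card_N (w := w)] at h1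
  -- an element moving `t`
  obtain ⟨l, hl, hlt⟩ : ∃ l ∈ I.K w z, l • t ≠ t := by
    by_contra hcon
    push Not at hcon
    have hle : I.K w z ≤ MulAction.stabilizer G t := fun l hl => hcon l hl
    rw [inf_eq_left.2 hle, I.card_K_eq hw.symm hw] at heq
    omega
  have key : ∀ a ∈ I.N z, a⁻¹ * (l * a * l⁻¹) ∈ I.K z w ⊓ I.K z t → a • w = w := by
    intro a ha hc
    by_contra haw
    let f : (I.K w z ⊓ MulAction.stabilizer G t : Subgroup G) →
        (I.K z w ⊓ I.K z t : Subgroup G) := fun m =>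
      ⟨_, I.comm_fix hw.symm ht hwl ha m.2.1 (MulAction.mem_stabilizer_iff.1 m.2.2)⟩
    have hinj : Function.Injective f := fun m m' e =>
      Subtype.ext (I.comm_injective hw.symm ha haw m.2.1 m'.2.1 (congrArg Subtype.val e))
    haveI := Fintype.ofFinite (I.K w z ⊓ MulAction.stabilizer G t : Subgroup G)
    haveI := Fintype.ofFinite (I.K z w ⊓ I.K z t : Subgroup G)
    have hsur := ((Fintype.bijective_iff_injective_and_card f).2
      ⟨hinj, by rw [← Nat.card_eq_fintype_card, ← Nat.card_eq_fintype_card]; exact heq⟩).2 ⟨_, hc⟩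
    obtain ⟨m, hm⟩ := hsur
    have hml := I.comm_injective hw.symm ha haw m.2.1 hl (congrArg Subtype.val hm)
    exact hlt (hml ▸ MulAction.mem_stabilizer_iff.1 m.2.2)
  -- the lower bound
  let S := (I.K z w ⊓ I.K z t : Subgroup G).subgroupOf (I.K z w)
  haveI : S.Normal := ⟨fun n hn g => by
    have : g * n * g⁻¹ = n := by
      rw [show g * n = n * g from Subtype.ext (I.comm z g (I.K_le _ _ g.2) n (I.K_le _ _ n.2)),
        mul_inv_cancel_right]
    rwa [this]⟩
  let φ : I.N z →* I.K z w ⧸ S := MonoidHom.mk'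
    (fun a => ((⟨_, I.comm_mem hw.symm a.2 hl⟩ : I.K z w) : I.K z w ⧸ S))
    (fun a b => by
      rw [← QuotientGroup.mk_mul]
      congr 1
      refine Subtype.ext ?_
      simp only [Subgroup.coe_mul, mul_inv_rev]
      have hc := I.K_le _ _ (I.comm_mem hw.symm a.2 hl)
      have hb : (b : G)⁻¹ ∈ I.N z := inv_mem b.2
      calc (b : G)⁻¹ * (a : G)⁻¹ * (l * (a * b) * l⁻¹)
          = (b : G)⁻¹ * ((a : G)⁻¹ * (l * a * l⁻¹)) * (l * b * l⁻¹) := by group
        _ = (a : G)⁻¹ * (l * a * l⁻¹) * (b : G)⁻¹ * (l * b * l⁻¹) := by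
            rw [I.comm z _ hb _ hc]
        _ = _ := by group)
  have hker : Nat.card φ.ker ≤ Nat.card (I.K z w) := by
    refine Nat.card_le_card_of_injective (fun a : φ.ker =>
      (⟨(a.1 : G), I.mem_K.2 ⟨a.1.2, key _ a.1.2 ?_⟩⟩ : I.K z w))
      fun a b e => Subtype.ext (Subtype.ext (by simpa using e))
    have hh : φ a.1 = 1 := a.2
    exact Subgroup.mem_subgroupOf.1 ((QuotientGroup.eq_one_iff (N := S) _).1 hh)
  have h2 : I.orb z w * Nat.card (I.K z w) ≤ Nat.card (I.K z w) * Nat.card (I.K z w ⧸ S) := by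
    rw [← I.card_N (w := w), Subgroup.card_eq_card_quotient_mul_card_subgroup φ.ker, mul_comm]
    refine Nat.mul_le_mul hker ?_
    rw [Nat.card_congr (QuotientGroup.quotientKerEquivRange φ).toEquiv]
    exact Finite.card_subtype_le _
  have h3 : Nat.card (I.K z w) =
      Nat.card (I.K z w ⧸ S) * Nat.card (I.K z w ⊓ I.K z t : Subgroup G) := by
    rw [Subgroup.card_eq_card_quotient_mul_card_subgroup S,
      Nat.card_congr (Subgroup.subgroupOfEquivOfLe inf_le_left).toEquiv]
  set k := Nat.card (I.K z w)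
  set d := Nat.card (I.K z w ⊓ I.K z t : Subgroup G)
  set s := I.orb z w
  have hs : s ≤ Nat.card (I.K z w ⧸ S) :=
    Nat.le_of_mul_le_mul_right (by linarith [h2]) (Nat.card_pos (α := I.K z w))
  refine le_antisymm ?_ ?_
  · calc d * s ≤ d * Nat.card (I.K z w ⧸ S) := Nat.mul_le_mul_left _ hs
      _ = k := by rw [h3, mul_comm]
  · obtain ⟨e, he⟩ : ∃ e, k = d + e := ⟨k - d, by omega⟩
    rw [he] at h1 ⊢
    rw [Nat.add_sub_cancel_left] at h1
    have : (s + 1) * e + d ≤ s * (d + e) := by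
      have h6 : d ≤ s * (d + e) := by
        have := I.two_le_orb hw.symm
        nlinarith
      omega
    nlinarith

/-- Every element of the group of `z` fixes a point of a line off `z`. -/
theorem exists_fixed_on {z u v : X} (hu : u ≠ z) (hv : v ≠ z) (hne : I.K z u ≠ I.K z v)
    {n : G} (hn : n ∈ I.N z) : ∃ a ∈ I.line u v, n • a = a := by
  haveI : Nontrivial X := ⟨⟨u, z, hu⟩⟩
  refine (I.line_count hu hv hne).2 ?_ n hn
  have huv : u ≠ v := fun e => hne (e ▸ rfl)
  rw [I.card_pts_eq hu.symm huv, I.card_pts hu.symm, I.card_N (w := u)]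
  have h := I.card_inf hu hv hne
  set d := Nat.card (I.K z u ⊓ I.K z v : Subgroup G)
  set s := I.orb z u
  rw [← h]
  rcases s with _ | s
  · simp
  · simp only [Nat.mul_succ, Nat.succ_mul, Nat.add_sub_cancel_right]
    ring_nf
    omega

end Config

end CfsgLib.ONan
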