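import Cfsg.Agent.Lib.ONan.Plane

/-!
# Hyperplanes of the linear space

A subspace has no more hyperplanes than points, and the fixed points of an element fixing two
points and lying in the group of one of them form a hyperplane.
-/

set_option autoImplicit false
set_option linter.unusedSectionVars false
set_option linter.style.haveILetI false

namespace CfsgLib.ONan

universe u v

open Finset

variable {G : Type u} {X : Type v} [Group G] [MulAction G X] [Finite G] [FaithfulSMul G X]
  [Finite X] (I : Config G X)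

namespace Config

/-- Closed under lines. -/
def IsSub (S : Finset X) : Prop := ∀ a ∈ S, ∀ b ∈ S, a ≠ b → I.pts a b ⊆ S

/-- A proper subspace meeting all lines. -/
def IsHyp (S H : Finset X) : Prop :=
  H ⊆ S ∧ H ≠ S ∧ I.IsSub H ∧ ∀ a ∈ S, ∀ b ∈ S, a ≠ b → ∃ c ∈ H, c ∈ I.line a b

theorem pts_congr {a b u v : X} (h : a ≠ b) (hu : u ∈ I.line a b) (hv : v ∈ I.line a b)
    (huv : u ≠ v) : I.pts u v = I.pts a b := by
  ext x
  rw [mem_pts, mem_pts, I.line_eq h hu hv huv]

/-- A hyperplane is maximal. -/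
theorem hyp_eq_of_subset {S H H' : Finset X} (hH : I.IsHyp S H) (hH' : I.IsHyp S H')
    (hle : H ⊆ H') : H = H' := by
  by_contra hne
  obtain ⟨q, hq, hqH⟩ : ∃ q ∈ H', q ∉ H := by
    by_contra hcon
    push Not at hcon
    exact hne (Subset.antisymm hle hcon)
  refine hH'.2.1 (Subset.antisymm hH'.1 fun r hr => ?_)
  rcases eq_or_ne q r with rfl | hqr
  · exact hq
  obtain ⟨c, hc, hcl⟩ := hH.2.2.2 q (hH'.1 hq) r hr hqr
  have hqc : q ≠ c := fun e => hqH (e ▸ hc)
  exact hH'.2.2.1 q hq c (hle hc) hqc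
    (I.mem_pts.2 (by rw [I.line_eq hqr (I.left_mem_line q r) hcl hqc]; exact I.right_mem_line hqr))

/-- A line leaving a subspace meets it at most once. -/
theorem meet_unique {H : Finset X} (hH : I.IsSub H) {p u c d : X} (hpu : p ≠ u) (hp : p ∉ H)
    (hc : c ∈ H) (hd : d ∈ H) (hcl : c ∈ I.line p u) (hdl : d ∈ I.line p u) : c = d := by
  by_contra hne
  refine hp (hH c hc d hd hne ?_)
  rw [I.mem_pts, I.line_eq hpu hcl hdl hne]
  exact I.left_mem_line p u

open Classical in
/-- A subspace has no more hyperplanes than points. -/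
theorem card_hyps_le {m : ℕ} (hm : ∀ a b : X, a ≠ b → (I.pts a b).card = m + 1) (S : Finset X)
    (hS : I.IsSub S) : (S.powerset.filter (I.IsHyp S)).card ≤ S.card := by
  induction S using Finset.strongInductionOn with
  | _ S ih =>
    set 𝓗 := S.powerset.filter (I.IsHyp S) with h𝓗
    have mem𝓗 : ∀ {H}, H ∈ 𝓗 ↔ I.IsHyp S H := fun {H} =>
      ⟨fun h => (mem_filter.1 h).2, fun h => mem_filter.2 ⟨mem_powerset.2 h.1, h⟩⟩
    rcases 𝓗.eq_empty_or_nonempty with he | ⟨H₀, hH₀⟩
    · simp [he]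
    have hh₀ := mem𝓗.1 hH₀
    obtain ⟨hsub, hne, hsubsp, -⟩ := hh₀
    obtain ⟨p, hpS, hpH⟩ : ∃ p ∈ S, p ∉ H₀ := by
      by_contra hcon
      push Not at hcon
      exact hne (Subset.antisymm hsub hcon)
    -- the points of `S`
    have hS1 : 1 + H₀.card * m ≤ S.card := by
      let T : X → Finset X := fun h => (I.pts p h).erase p
      have hne' : ∀ h ∈ H₀, p ≠ h := fun h hh e => hpH (e ▸ hh)
      have hT : ∀ h ∈ H₀, (T h).card = m := fun h hh => by
        show ((I.pts p h).erase p).card = m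
        rw [card_erase_of_mem (I.mem_pts.2 (I.left_mem_line p h)), hm p h (hne' h hh),
          Nat.add_sub_cancel]
      have hdisj : (↑H₀ : Set X).PairwiseDisjoint T := by
        intro a ha b hb hab
        refine disjoint_left.2 fun x hxa hxb => hab ?_
        simp only [T, mem_erase, mem_pts] at hxa hxb
        have e1 := I.line_eq (hne' a ha) (I.left_mem_line p a) hxa.2 hxa.1.symm
        have e2 := I.line_eq (hne' b hb) (I.left_mem_line p b) hxb.2 hxb.1.symm
        refine I.meet_unique hsubsp (hne' a ha) hpH ha hb (I.right_mem_line (hne' a ha)) ?_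
        rw [← e1, e2]
        exact I.right_mem_line (hne' b hb)
      have hss : insert p (H₀.biUnion T) ⊆ S := by
        intro x hx
        rcases mem_insert.1 hx with rfl | hx
        · exact hpS
        obtain ⟨h, hh, hxh⟩ := mem_biUnion.1 hx
        exact hS p hpS h (hsub hh) (hne' h hh) (mem_of_mem_erase hxh)
      have hp : p ∉ H₀.biUnion T := by simp [T]
      have := card_le_card hss
      rw [card_insert_of_notMem hp, card_biUnion hdisj, sum_congr rfl hT, sum_const,
        smul_eq_mul] at this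
      omega
    -- the other hyperplanes
    set 𝓦 := H₀.powerset.filter (I.IsHyp H₀) with h𝓦
    have hih : 𝓦.card ≤ H₀.card := ih H₀ (hsub.ssubset_of_ne hne) hsubsp
    have hmap : ∀ H ∈ 𝓗.erase H₀, H ∩ H₀ ∈ 𝓦 := by
      intro H hH
      obtain ⟨hHne, hH⟩ := mem_erase.1 hH
      obtain ⟨hHS, -, hHsub, hmeet⟩ := mem𝓗.1 hH
      refine mem_filter.2 ⟨mem_powerset.2 inter_subset_right, inter_subset_right, fun e => ?_, ?_, ?_⟩
      · exact hHne (I.hyp_eq_of_subset (mem𝓗.1 hH₀) (mem𝓗.1 hH) (inter_eq_right.1 e)).symm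
      · intro a ha b hb hab x hx
        rw [mem_inter] at ha hb ⊢
        exact ⟨hHsub a ha.1 b hb.1 hab hx, hsubsp a ha.2 b hb.2 hab hx⟩
      · intro a ha b hb hab
        obtain ⟨c, hc, hcl⟩ := hmeet a (hsub ha) b (hsub hb) hab
        exact ⟨c, mem_inter.2 ⟨hc, hsubsp a ha b hb hab (I.mem_pts.2 hcl)⟩, hcl⟩
    have hfib : ∀ W ∈ (𝓗.erase H₀).image (fun H => H ∩ H₀),
        ((𝓗.erase H₀).filter fun H => H ∩ H₀ = W).card ≤ m := by
      intro W hW
      obtain ⟨H₁, hH₁, rfl⟩ := mem_image.1 hW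
      have hW' := (mem_filter.1 (hmap H₁ hH₁)).2
      obtain ⟨u, huH, huW⟩ : ∃ u ∈ H₀, u ∉ H₁ ∩ H₀ := by
        by_contra hcon
        push Not at hcon
        exact hW'.2.1 (Subset.antisymm hW'.1 hcon)
      have hpu : p ≠ u := fun e => hpH (e ▸ huH)
      set F := (𝓗.erase H₀).filter fun H => H ∩ H₀ = H₁ ∩ H₀ with hF
      have hex : ∀ H : F, ∃ c ∈ (I.pts p u).erase u, c ∈ (H : Finset X) := by
        rintro ⟨H, hH⟩
        obtain ⟨hH', hHW⟩ := mem_filter.1 hH
        obtain ⟨-, -, -, hmeet⟩ := mem𝓗.1 (mem_of_mem_erase hH')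
        obtain ⟨c, hc, hcl⟩ := hmeet p hpS u (hsub huH) hpu
        refine ⟨c, mem_erase.2 ⟨fun e => huW ?_, I.mem_pts.2 hcl⟩, hc⟩
        rw [← hHW, ← e]
        exact mem_inter.2 ⟨hc, e ▸ huH⟩
      choose c hc hcH using hex
      have key : ∀ H H' : F, c H = c H' → (H : Finset X) ⊆ H' := by
        intro H H' hcc x hx
        obtain ⟨hH', hHW⟩ := mem_filter.1 H.2
        obtain ⟨hH'', hHW'⟩ := mem_filter.1 H'.2
        obtain ⟨hHS, -, hHsub, -⟩ := mem𝓗.1 (mem_of_mem_erase hH')
        obtain ⟨-, -, hH'sub, -⟩ := mem𝓗.1 (mem_of_mem_erase hH'')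
        have hcS := hHS (hcH H)
        have hcH₀ : c H ∉ H₀ := fun h => by
          obtain ⟨hcu, hcl⟩ := mem_erase.1 (hc H)
          exact hcu (I.meet_unique hsubsp hpu hpH h huH (I.mem_pts.1 hcl)
            (I.right_mem_line hpu))
        rcases eq_or_ne (c H) x with rfl | hcx
        · exact hcc ▸ hcH H'
        obtain ⟨d, hd, hdl⟩ := (mem𝓗.1 hH₀).2.2.2 (c H) hcS x (hHS hx) hcx
        have hcd : c H ≠ d := fun e => hcH₀ (e ▸ hd)
        have hdH : d ∈ (H : Finset X) := hHsub _ (hcH H) _ hx hcx (I.mem_pts.2 hdl)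
        have hdH' : d ∈ (H' : Finset X) := by
          have h1 : d ∈ H₁ ∩ H₀ := hHW ▸ mem_inter.2 ⟨hdH, hd⟩
          rw [← hHW'] at h1
          exact (mem_inter.1 h1).1
        refine hH'sub (c H) (hcc ▸ hcH H') d hdH' hcd ?_
        rw [I.mem_pts, I.line_eq hcx (I.left_mem_line _ _) hdl hcd]
        exact I.right_mem_line hcx
      calc F.card = (univ : Finset F).card := by rw [univ_eq_attach, card_attach]
        _ ≤ ((I.pts p u).erase u).card :=
          card_le_card_of_injOn c (fun H _ => hc H)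
            fun H _ H' _ e => Subtype.ext (Subset.antisymm (key H H' e) (key H' H e.symm))
        _ = m := by
          rw [card_erase_of_mem (I.mem_pts.2 (I.right_mem_line hpu)), hm p u hpu,
            Nat.add_sub_cancel]
    have h1 := card_le_mul_card_image (f := fun H => H ∩ H₀) (𝓗.erase H₀) m hfib
    have h2 : ((𝓗.erase H₀).image fun H => H ∩ H₀).card ≤ 𝓦.card :=
      card_le_card fun W hW => by
        obtain ⟨H, hH, rfl⟩ := mem_image.1 hW
        exact hmap H hH
    have h3 := card_erase_add_one hH₀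
    have h4 : (𝓗.erase H₀).card ≤ m * H₀.card :=
      h1.trans (Nat.mul_le_mul_left _ (h2.trans hih))
    rw [mul_comm] at hS1
    omega

open Classical in
/-- The points fixed by an element. -/
noncomputable def fixSet (n : G) : Finset X := ((MulAction.fixedBy X n).toFinite).toFinset

theorem mem_fixSet {n : G} {a : X} : a ∈ fixSet n ↔ n • a = a := by
  simp [fixSet, MulAction.mem_fixedBy]

/-- The fixed points are a hyperplane. -/
theorem isHyp_fixSet [Fintype X] {x : X} {n : G} (hn : n ∈ I.N x) (h1 : n ≠ 1) :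
    I.IsHyp univ (fixSet n) := by
  refine ⟨subset_univ _, fun e => h1 ?_, ?_, ?_⟩
  · refine eq_of_smul_eq_smul fun a : X => ?_
    rw [one_smul]
    exact mem_fixSet.1 (e ▸ mem_univ a)
  · intro a ha b hb hab c hc
    exact mem_fixSet.2 (I.two_line hn hab (mem_fixSet.1 ha) (mem_fixSet.1 hb) (I.mem_pts.1 hc))
  · intro a _ b _ hab
    by_cases hx : x ∈ I.line a b
    · exact ⟨x, mem_fixSet.2 (I.fix x n hn), hx⟩
    · obtain ⟨c, hc, hfix⟩ := I.exists_fixed_on (z := x) (u := a) (v := b) (fun e => hx (e ▸ I.left_mem_line a b))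
        (fun e => hx (e ▸ I.right_mem_line hab)) (I.K_ne hab hx) hn
      exact ⟨c, mem_fixSet.2 hfix, hc⟩

end Config

end CfsgLib.ONan
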