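import Cfsg.Agent.Lib.ONan.Basic

/-!
# The lines of an O'Nan configuration

The two stabilisers of a pair generate an abelian group; the points whose group meets it in a
stabiliser form the line of the pair.  Lines form a linear space and the group of a point fixes
every line through that point.
-/

set_option autoImplicit false
set_option linter.unusedSectionVars false

namespace CfsgLib.ONan

universe u v

variable {G : Type u} {X : Type v} [Group G] [MulAction G X] [Finite G] [FaithfulSMul G X]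
  (I : Config G X)

namespace Config

/-- The abelian group of a pair. -/
def U (z w : X) : Subgroup G := I.K z w ⊔ I.K w z

theorem U_comm (z w : X) : I.U z w = I.U w z := sup_comm _ _

/-- Multiplication from the two stabilisers of a pair. -/
def pairHom {z w : X} (h : z ≠ w) : I.K z w × I.K w z →* G :=
  MonoidHom.noncommCoprod (I.K z w).subtype (I.K w z).subtype fun a b =>
    I.commute_of_fix h (I.mem_K.1 a.2).1 (I.mem_K.1 a.2).2 (I.mem_K.1 b.2).1 (I.mem_K.1 b.2).2

theorem pairHom_apply {z w : X} (h : z ≠ w) (x : I.K z w × I.K w z) :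
    I.pairHom h x = (x.1 : G) * x.2 := rfl

theorem pairHom_range {z w : X} (h : z ≠ w) : (I.pairHom h).range = I.U z w := by
  refine (MonoidHom.noncommCoprod_range _ _ _).trans ?_
  rw [Subgroup.range_subtype, Subgroup.range_subtype]
  rfl

theorem pairHom_injective {z w : X} (h : z ≠ w) : Function.Injective (I.pairHom h) := by
  refine (injective_iff_map_eq_one _).2 fun x hx => ?_
  rw [pairHom_apply] at hx
  have h2 : (x.2 : G) = 1 := I.ti h
    (by rw [show (x.2 : G) = (x.1 : G)⁻¹ from (inv_eq_of_mul_eq_one_right hx).symm]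
        exact inv_mem (I.K_le _ _ x.1.2))
    (I.K_le _ _ x.2.2)
  rw [h2, mul_one] at hx
  exact Prod.ext (Subtype.ext hx) (Subtype.ext h2)

theorem exists_of_mem_U {z w : X} (h : z ≠ w) {g : G} (hg : g ∈ I.U z w) :
    ∃ a ∈ I.K z w, ∃ b ∈ I.K w z, g = a * b := by
  rw [← I.pairHom_range h] at hg
  obtain ⟨⟨a, b⟩, rfl⟩ := hg
  exact ⟨a, a.2, b, b.2, rfl⟩

theorem card_U {z w : X} (h : z ≠ w) :
    Nat.card (I.U z w) = Nat.card (I.K z w) * Nat.card (I.K z w) := by
  have e := Nat.card_congr (MonoidHom.ofInjective (I.pairHom_injective h)).toEquiv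
  rw [I.pairHom_range h, Nat.card_prod, I.card_K_eq h h.symm] at e
  exact e.symm

theorem U_commute {z w : X} (h : z ≠ w) {g g' : G} (hg : g ∈ I.U z w) (hg' : g' ∈ I.U z w) :
    g * g' = g' * g := by
  rw [← I.pairHom_range h] at hg hg'
  obtain ⟨⟨a, b⟩, rfl⟩ := hg
  obtain ⟨⟨a', b'⟩, rfl⟩ := hg'
  rw [← map_mul, ← map_mul]
  congr 1
  exact Prod.ext (Subtype.ext (I.comm z a (I.K_le _ _ a.2) a' (I.K_le _ _ a'.2)))
    (Subtype.ext (I.comm w b (I.K_le _ _ b.2) b' (I.K_le _ _ b'.2)))

theorem map_U (g : G) (z w : X) :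
    (I.U z w).map (MulAut.conj g).toMonoidHom = I.U (g • z) (g • w) := by
  rw [U, Subgroup.map_sup, I.map_K, I.map_K]
  rfl

/-- The line of a pair. -/
def line (z w : X) : Set X :=
  {u | Nat.card (I.K z w) ≤ Nat.card (I.N u ⊓ I.U z w : Subgroup G)}

theorem mem_line {z w u : X} :
    u ∈ I.line z w ↔ Nat.card (I.K z w) ≤ Nat.card (I.N u ⊓ I.U z w : Subgroup G) := Iff.rfl

theorem left_mem_line (z w : X) : z ∈ I.line z w :=
  Subgroup.card_le_of_le (le_inf (I.K_le z w) le_sup_left)

theorem right_mem_line {z w : X} (h : z ≠ w) : w ∈ I.line z w := by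
  rw [mem_line, ← I.card_K_eq h h.symm]
  exact Subgroup.card_le_of_le (le_inf (I.K_le w z) le_sup_right)

/-- The group of a pair fixes the line pointwise. -/
theorem fix_of_mem_U {z w u : X} (h : z ≠ w) (hu : u ∈ I.line z w) {g : G} (hg : g ∈ I.U z w) :
    g • u = u := by
  haveI : Nontrivial (I.N u ⊓ I.U z w : Subgroup G) :=
    Finite.one_lt_card_iff_nontrivial.1 (lt_of_lt_of_le (I.one_lt_card_K h) hu)
  obtain ⟨m, hm⟩ := exists_ne (1 : (I.N u ⊓ I.U z w : Subgroup G))
  exact I.cent_fix m.2.1 (fun e => hm (Subtype.ext e)) (I.U_commute h hg m.2.2)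

theorem N_inf_U {z w u v : X} (h : z ≠ w) (hu : u ∈ I.line z w) (hv : v ∈ I.line z w)
    (huv : u ≠ v) : I.N u ⊓ I.U z w = I.K u v := by
  refine Subgroup.eq_of_le_of_card_ge
    (fun g hg => I.mem_K.2 ⟨hg.1, I.fix_of_mem_U h hv hg.2⟩) ?_
  rw [I.card_K_eq h huv]
  exact hu

theorem U_eq {z w u v : X} (h : z ≠ w) (hu : u ∈ I.line z w) (hv : v ∈ I.line z w)
    (huv : u ≠ v) : I.U u v = I.U z w := by
  refine Subgroup.eq_of_le_of_card_ge (sup_le ?_ ?_) ?_
  · rw [← I.N_inf_U h hu hv huv]; exact inf_le_right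
  · rw [← I.N_inf_U h hv hu huv.symm]; exact inf_le_right
  · rw [I.card_U h, I.card_U huv, I.card_K_eq h huv]

theorem line_eq {z w u v : X} (h : z ≠ w) (hu : u ∈ I.line z w) (hv : v ∈ I.line z w)
    (huv : u ≠ v) : I.line u v = I.line z w := by
  ext x
  rw [mem_line, mem_line, I.U_eq h hu hv huv, I.card_K_eq h huv]

theorem line_comm {z w : X} (h : z ≠ w) : I.line z w = I.line w z := by
  ext x
  rw [mem_line, mem_line, I.U_comm, I.card_K_eq h h.symm]

theorem line_unique {a b z w u v : X} (hab : a ≠ b) (h : z ≠ w) (h' : u ≠ v)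
    (ha : a ∈ I.line z w) (hb : b ∈ I.line z w) (ha' : a ∈ I.line u v) (hb' : b ∈ I.line u v) :
    I.line z w = I.line u v := by
  rw [← I.line_eq h ha hb hab, ← I.line_eq h' ha' hb' hab]

theorem smul_mem_line (g : G) {z w u : X} :
    g • u ∈ I.line (g • z) (g • w) ↔ u ∈ I.line z w := by
  rw [mem_line, mem_line, ← I.map_K, ← I.map_U, ← I.map_N,
    ← Subgroup.map_inf _ _ _ (MulAut.conj g).injective,
    Subgroup.card_map_of_injective (MulAut.conj g).injective,
    Subgroup.card_map_of_injective (MulAut.conj g).injective]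

theorem fix_smul {z : X} {a : G} (ha : a ∈ I.N z) (u : X) (hu : a • u = z) : u = z := by
  rw [← inv_smul_smul a u, hu]
  exact I.fix z _ (inv_mem ha)

theorem smul_ne {z u : X} {a : G} (ha : a ∈ I.N z) (hu : u ≠ z) : a • u ≠ z :=
  fun e => hu (I.fix_smul ha u e)

theorem orbit_mem_line {z w : X} (h : z ≠ w) {a : G} (ha : a ∈ I.N z) :
    a • w ∈ I.line z w := by
  have hne : a • w ≠ z := I.smul_ne ha h.symm
  rw [mem_line, ← I.card_K_eq h hne]
  refine Subgroup.card_le_of_le (le_inf (I.K_le _ _) fun m hm => ?_)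
  obtain ⟨l, hl, rfl⟩ : ∃ l ∈ I.K w z, a * l * a⁻¹ = m := by
    have h1 := I.map_K a w z
    rw [I.fix z a ha] at h1
    rw [← h1] at hm
    exact hm
  obtain ⟨hlw, hlz⟩ := I.mem_K.1 hl
  have h2 : l⁻¹ * a * l ∈ I.N z := by
    have := I.conj l⁻¹ z a ha
    rwa [inv_smul_eq_iff.2 hlz.symm, inv_inv] at this
  rw [show a * l * a⁻¹ = l * ((l⁻¹ * a * l) * a⁻¹) by group]
  refine mul_mem (Subgroup.mem_sup_right hl)
    (Subgroup.mem_sup_left (I.mem_K.2 ⟨mul_mem h2 (inv_mem ha), ?_⟩))
  simp only [mul_smul]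
  rw [I.fix_orbit h.symm hl (inv_mem ha), smul_inv_smul]
  exact I.fix w _ (inv_mem hlw)

/-- The group of a point stabilises the lines through it. -/
theorem smul_mem_line_self {z w u : X} (h : z ≠ w) {a : G} (ha : a ∈ I.N z)
    (hu : u ∈ I.line z w) : a • u ∈ I.line z w := by
  rcases eq_or_ne u z with rfl | huz
  · rwa [I.fix u a ha]
  have := I.orbit_mem_line huz.symm ha
  rwa [I.line_eq h (I.left_mem_line z w) hu huz.symm] at this

theorem K_eq_of_mem {z w u : X} (h : z ≠ w) (hu : u ∈ I.line z w) (huz : u ≠ z) :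
    I.K z u = I.K z w := by
  refine (Subgroup.eq_of_le_of_card_ge ?_ (I.card_K_eq h huz.symm).le).symm
  exact fun n hn => I.mem_K.2 ⟨I.K_le _ _ hn, I.fix_of_mem_U h hu (Subgroup.mem_sup_left hn)⟩

/-- An element of a group fixing two points fixes their line. -/
theorem two_line {z u v t : X} {n : G} (hn : n ∈ I.N z) (huv : u ≠ v) (hu : n • u = u)
    (hv : n • v = v) (ht : t ∈ I.line u v) : n • t = t := by
  by_cases hz : z ∈ I.line u v
  · have key : ∀ w, n • w = w → w ∈ I.line u v → w ≠ z → n • t = t := by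
      intro w hw hwl hwz
      have ht' : t ∈ I.line z w := by rwa [I.line_eq huv hz hwl hwz.symm]
      exact I.fix_of_mem_U hwz.symm ht' (Subgroup.mem_sup_left (I.mem_K.2 ⟨hn, hw⟩))
    rcases eq_or_ne u z with huz | huz
    · exact key v hv (I.right_mem_line huv) (by rw [← huz]; exact huv.symm)
    · exact key u hu (I.left_mem_line u v) huz
  · have htz : t ≠ z := fun e => hz (e ▸ ht)
    by_contra hne
    have h1 : n • t ∈ I.line z t := I.smul_mem_line_self htz.symm hn (I.right_mem_line htz.symm)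
    have h2 : n • t ∈ I.line u v := by
      have := (I.smul_mem_line n).2 ht
      rwa [hu, hv] at this
    have h3 := I.line_unique (Ne.symm hne) htz.symm huv (I.right_mem_line htz.symm) h1 ht h2
    exact hz (h3 ▸ I.left_mem_line z t)

end Config

end CfsgLib.ONan
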