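import Cfsg.Agent.Lib.ONan.Hyperplane
import Cfsg.Agent.Lib.SymDesign.Main
import Cfsg.Agent.Lib.Classical.SLBasic
import Cfsg.Agent.Lib.Coprime.Component
import Cfsg.Agent.Lib.Invol.BLayer.General

/-!
# O'Nan's theorem

The hyperplanes give a symmetric design, so Ito's theorem applies to the stabiliser of one.
-/

set_option autoImplicit false
set_option linter.unusedSectionVars false
set_option linter.style.haveILetI false

namespace CfsgLib.ONan

universe u v

open Finset

/-- Fisher's inequality. -/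
theorem fisher {P Q : Type*} [Fintype P] [Fintype Q] (inc : P → Q → Prop) {r l : ℕ}
    (hr : ∀ x, Nat.card {B // inc x B} = r)
    (hl : ∀ x y, x ≠ y → Nat.card {B // inc x B ∧ inc y B} = l) (hlt : l < r) :
    Fintype.card P ≤ Fintype.card Q := by
  classical
  set M := SymDesign.incMat inc with hM
  have key : ∀ c : P → ℚ, M.transpose.mulVec c = 0 → c = 0 := by
    intro c hc
    have h0 : (M * M.transpose).mulVec c = 0 := by
      rw [← Matrix.mulVec_mulVec, hc, Matrix.mulVec_zero]
    set S := ∑ y, c y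
    have hx : ∀ x, ((r : ℚ) - l) * c x + l * S = 0 := by
      intro x
      have h1 := congrFun h0 x
      simp only [Matrix.mulVec, dotProduct, Pi.zero_apply, hM,
        SymDesign.incMat_mul_transpose_apply] at h1
      have h2 : ∀ y, (Nat.card {B // inc x B ∧ inc y B} : ℚ) * c y =
          (if x = y then ((r : ℚ) - l) * c y else 0) + l * c y := by
        intro y
        split_ifs with h
        · subst h
          simp only [and_self, hr]
          ring
        · rw [hl x y h]
          ring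
      rw [sum_congr rfl fun y _ => h2 y, sum_add_distrib, ← mul_sum, sum_ite_eq] at h1
      simpa using h1
    have hpos : (0 : ℚ) < (r : ℚ) - l := sub_pos.2 (by exact_mod_cast hlt)
    have hS : S = 0 := by
      have h3 : ∑ x, (((r : ℚ) - l) * c x + l * S) = 0 := sum_eq_zero fun x _ => hx x
      rw [sum_add_distrib, ← mul_sum, sum_const, card_univ, nsmul_eq_mul] at h3
      have h4 : (((r : ℚ) - l) + Fintype.card P * l) * S = 0 := by linear_combination h3
      refine (mul_eq_zero.1 h4).resolve_left (ne_of_gt ?_)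
      positivity
    funext x
    have := hx x
    rw [hS, mul_zero, add_zero] at this
    exact (mul_eq_zero.1 this).resolve_left hpos.ne'
  have hinj : Function.Injective M.transpose.mulVecLin := by
    rw [← LinearMap.ker_eq_bot, LinearMap.ker_eq_bot']
    exact key
  have := LinearMap.finrank_le_finrank_of_injective hinj
  rwa [Module.finrank_fintype_fun_eq_card, Module.finrank_fintype_fun_eq_card] at this

variable {G : Type u} {X : Type v} [Group G] [MulAction G X] [Finite G] [FaithfulSMul G X]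
  [Fintype X]

namespace Config

open Pointwise in
theorem exists_psl (I : Config G X) (h2 : MulAction.IsMultiplyPretransitive G X 2) {x y : X} (hxy : x ≠ y) :
    ∃ (m : ℕ) (F : Type) (_ : Field F) (_ : Fintype F), 2 ≤ m ∧
      Nat.card X = (Fintype.card F ^ (m + 1) - 1) / (Fintype.card F - 1) ∧
      ∃ N : Subgroup G, N.Normal ∧
        Nonempty (N ≃* Matrix.ProjectiveSpecialLinearGroup (Fin (m + 1)) F) ∧
        Subgroup.centralizer (N : Set G) = ⊥ := by
  classical
  haveI := h2
  haveI : MulAction.IsPretransitive G X := MulAction.isPretransitive_of_is_two_pretransitive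
  obtain ⟨n, hn, hn1, hny⟩ := I.nsr x y hxy
  set B₀ : Finset X := fixSet n with hB₀
  have hsmul : ∀ (g : G) (a : G), g • fixSet (X := X) a = fixSet (g * a * g⁻¹) := by
    intro g a
    ext z
    rw [← Finset.inv_smul_mem_iff, mem_fixSet, mem_fixSet, mul_smul, mul_smul, eq_inv_smul_iff]
  have hxB : x ∈ B₀ := mem_fixSet.2 (I.fix x n hn)
  have hyB : y ∈ B₀ := mem_fixSet.2 hny
  obtain ⟨-, hB₀ne, hB₀sub, -⟩ := I.isHyp_fixSet hn hn1
  obtain ⟨b, hb⟩ : ∃ b, b ∉ B₀ := by
    by_contra hcon
    push Not at hcon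
    exact hB₀ne (eq_univ_iff_forall.2 hcon)
  haveI := Fintype.ofFinite (MulAction.orbit G B₀)
  let inc : X → MulAction.orbit G B₀ → Prop := fun a B => a ∈ (B : Finset X)
  have hc : ∀ (g : G) (a : X) (B : MulAction.orbit G B₀), inc (g • a) (g • B) ↔ inc a B := by
    intro g a B
    exact Finset.smul_mem_smul_finset_iff g
  -- constant counts
  have hr : ∀ a, Nat.card {B // inc a B} = Nat.card {B // inc x B} := by
    intro a
    obtain ⟨g, rfl⟩ := MulAction.exists_smul_eq G x a
    exact (Nat.card_congr ((MulAction.toPerm g).subtypeEquiv fun B => (hc g x B).symm)).symm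
  have hl : ∀ a a', a ≠ a' →
      Nat.card {B // inc a B ∧ inc a' B} = Nat.card {B // inc x B ∧ inc b B} := by
    intro a a' h
    obtain ⟨g, rfl, rfl⟩ := I.two x b a a' (fun e => hb (e ▸ hxB)) h
    exact (Nat.card_congr ((MulAction.toPerm g).subtypeEquiv fun B =>
      (and_congr (hc g x B) (hc g b B)).symm)).symm
  have hlt : Nat.card {B // inc x B ∧ inc b B} < Nat.card {B // inc x B} := by
    rw [Nat.card_eq_fintype_card, Nat.card_eq_fintype_card, Fintype.card_subtype,
      Fintype.card_subtype]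
    refine card_lt_card ((ssubset_iff_of_subset (monotone_filter_right _ fun _ _ h => h.1)).2 ?_)
    exact ⟨⟨B₀, MulAction.mem_orbit_self B₀⟩, mem_filter.2 ⟨mem_univ _, hxB⟩,
      fun h => hb (mem_filter.1 h).2.2⟩
  have hfisher := fisher inc hr hl hlt
  -- no more blocks than points
  have hm : ∀ a c : X, a ≠ c → (I.pts a c).card = I.orb x y + 1 := fun a c h =>
    (I.card_pts_eq hxy h).trans (I.card_pts hxy)
  have hb' : Fintype.card (MulAction.orbit G B₀) ≤ Fintype.card X := by
    refine le_trans ?_ (I.card_hyps_le hm univ fun _ _ _ _ _ => subset_univ _)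
    refine le_of_eq_of_le card_univ.symm (card_le_card_of_injOn (fun B => (B : Finset X))
      (fun B _ => mem_filter.2 ⟨mem_powerset.2 (subset_univ _), ?_⟩) fun B _ B' _ e => Subtype.ext e)
    obtain ⟨g, hg⟩ := B.2
    show I.IsHyp univ (B : Finset X)
    rw [← hg, hB₀]
    show I.IsHyp univ (g • fixSet n)
    rw [hsmul]
    exact I.isHyp_fixSet (I.conj g x n hn) fun e => hn1 (conj_eq_one_iff.1 e)
  set H := MulAction.stabilizer G B₀ with hH
  have hidx : H.index = Nat.card X := by
    rw [hH, MulAction.index_stabilizer, ← Nat.card_coe_set_eq, Nat.card_eq_fintype_card,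
      Nat.card_eq_fintype_card]
    exact le_antisymm hb' hfisher
  have hinv : ∀ h ∈ H, ∀ a, h • a ∈ B₀ ↔ a ∈ B₀ := by
    intro h hh a
    conv_lhs => rw [← MulAction.mem_stabilizer_iff.1 hh]
    exact Finset.smul_mem_smul_finset_iff h
  refine SymDesign.ito h2 H hidx ?_ ?_ ?_
  · intro ht
    obtain ⟨h, hh⟩ := MulAction.exists_smul_eq H x b
    exact hb (hh ▸ (hinv h h.2 x).2 hxB)
  · intro a
    by_contra hcon
    push Not at hcon
    have hle : H ≤ MulAction.stabilizer G a := fun h hh => hcon ⟨h, hh⟩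
    have hge : MulAction.stabilizer G a ≤ H := by
      have h1 := Subgroup.relIndex_mul_index hle
      rw [MulAction.index_stabilizer_of_transitive, hidx] at h1
      haveI : Nonempty X := ⟨x⟩
      exact Subgroup.relIndex_eq_one.1 (Nat.eq_of_mul_eq_mul_right Nat.card_pos
        (h1.trans (one_mul _).symm))
    obtain ⟨c, hc, hca⟩ : ∃ c ∈ B₀, c ≠ a := by
      rcases eq_or_ne x a with rfl | h
      · exact ⟨y, hyB, hxy.symm⟩
      · exact ⟨x, hxB, h⟩
    have hall : ∀ d, d ≠ a → d ∈ B₀ := by
      intro d hd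
      obtain ⟨g, hga, rfl⟩ := I.two a c a d hca.symm hd.symm
      exact (hinv g (hge hga) c).2 hc
    obtain ⟨d, hd, hda, hdc⟩ : ∃ d ∈ I.pts a c, d ≠ a ∧ d ≠ c := by
      by_contra hcon'
      push Not at hcon'
      have hsub : I.pts a c ⊆ {a, c} := fun d hd => by
        rw [mem_insert, mem_singleton]
        rcases eq_or_ne d a with h | h
        · exact Or.inl h
        · exact Or.inr (hcon' d hd h)
      have := (card_le_card hsub).trans card_le_two
      rw [hm a c hca.symm] at this
      have := I.two_le_orb hxy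
      omega
    refine hb ?_
    rcases eq_or_ne b a with rfl | hba
    · refine hB₀sub c hc d (hall d hda) hdc.symm ?_
      rw [I.pts_congr hca.symm (I.right_mem_line hca.symm) (I.mem_pts.1 hd) hdc.symm]
      exact I.mem_pts.2 (I.left_mem_line b c)
    · exact hall b hba
  · have hnH : n ∈ H := by
      rw [hH, MulAction.mem_stabilizer_iff, hB₀, hsmul, mul_inv_cancel_right]
    refine ⟨x, ⟨n, hnH⟩, fun e => hn1 (congrArg Subtype.val e), ?_⟩
    rintro _ ⟨h, rfl⟩
    exact mem_fixSet.1 ((hinv h h.2 x).2 hxB)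

end Config

/-- A configuration from an abelian normal subgroup of a point stabiliser. -/
theorem exists_config (h2 : MulAction.IsMultiplyPretransitive G X 2) (x : X) (N : Subgroup G)
    (hNle : N ≤ MulAction.stabilizer G x)
    (hNnormal : ∀ g ∈ MulAction.stabilizer G x, ∀ n ∈ N, g * n * g⁻¹ ∈ N)
    (hNab : ∀ a ∈ N, ∀ b ∈ N, a * b = b * a)
    (hnsr : ∃ n ∈ N, n ≠ 1 ∧ ∃ y : X, y ≠ x ∧ n • y = y) : Nonempty (Config G X) := by
  classical
  haveI := h2
  haveI : MulAction.IsPretransitive G X := MulAction.isPretransitive_of_is_two_pretransitive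
  have htwo : ∀ a b a' b' : X, a ≠ b → a' ≠ b' → ∃ g : G, g • a = a' ∧ g • b = b' :=
    fun a b a' b' h h' => (MulAction.is_two_pretransitive_iff.1 h2) h h'
  obtain ⟨n₀, hn₀, hn₀1, y, hyx, hn₀y⟩ := hnsr
  obtain ⟨p, hp, hpd⟩ := Nat.exists_prime_and_dvd (mt orderOf_eq_one_iff.1 hn₀1)
  set n₁ := n₀ ^ (orderOf n₀ / p)
  have hn₁ord : orderOf n₁ = p := orderOf_pow_orderOf_div (orderOf_pos n₀).ne' hpd
  let N' : Subgroup G :=
    { carrier := {a | a ∈ N ∧ a ^ p = 1}
      one_mem' := ⟨N.one_mem, one_pow _⟩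
      mul_mem' := fun {a b} ha hb => ⟨N.mul_mem ha.1 hb.1, by
        rw [(show Commute a b from hNab a ha.1 b hb.1).mul_pow, ha.2, hb.2, one_mul]⟩
      inv_mem' := fun {a} ha => ⟨N.inv_mem ha.1, by rw [inv_pow, ha.2, inv_one]⟩ }
  have hn₁ : n₁ ∈ N' := ⟨pow_mem hn₀ _, hn₁ord ▸ pow_orderOf_eq_one n₁⟩
  have hn₁y : n₁ • y = y :=
    MulAction.mem_stabilizer_iff.1 (pow_mem (MulAction.mem_stabilizer_iff.2 hn₀y) _)
  have hN' : ∀ c : G, c • x = x → ∀ a ∈ N', c * a * c⁻¹ ∈ N' := fun c hc a ha =>
    ⟨hNnormal c (MulAction.mem_stabilizer_iff.2 hc) a ha.1, by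
      rw [conj_pow, ha.2, mul_one, mul_inv_cancel]⟩
  choose g hg using fun z : X => MulAction.exists_smul_eq G x z
  let Nz : X → Subgroup G := fun z => N'.map (MulAut.conj (g z)).toMonoidHom
  have hmem : ∀ z, ∀ a ∈ Nz z, ∃ m ∈ N', g z * m * (g z)⁻¹ = a := fun z a ha => ha
  have hmk : ∀ (h : G), ∀ m ∈ N', h * m * h⁻¹ ∈ Nz (h • x) := by
    intro h m hm
    refine ⟨((g (h • x))⁻¹ * h) * m * ((g (h • x))⁻¹ * h)⁻¹, hN' _ ?_ m hm, ?_⟩
    · rw [mul_smul, inv_smul_eq_iff, hg]
    · show g (h • x) * _ * (g (h • x))⁻¹ = _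
      group
  refine ⟨⟨Nz, p, hp, ?_, ?_, ?_, ?_, ?_, htwo⟩⟩
  · intro z a ha
    obtain ⟨m, hm, rfl⟩ := hmem z a ha
    rw [mul_smul, mul_smul, inv_smul_eq_iff.2 (hg z).symm,
      MulAction.mem_stabilizer_iff.1 (hNle hm.1), hg]
  · intro h z a ha
    obtain ⟨m, hm, rfl⟩ := hmem z a ha
    have := hmk (h * g z) m hm
    rw [mul_smul, hg] at this
    simpa [mul_assoc] using this
  · intro z a ha b hb
    obtain ⟨m, hm, rfl⟩ := hmem z a ha
    obtain ⟨m', hm', rfl⟩ := hmem z b hb
    simp only [conj_mul, hNab m hm.1 m' hm'.1]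
  · intro z a ha
    obtain ⟨m, hm, rfl⟩ := hmem z a ha
    rw [conj_pow, hm.2, mul_one, mul_inv_cancel]
  · intro z w hzw
    obtain ⟨h, hhx, hhy⟩ := htwo x y z w hyx.symm hzw
    refine ⟨h * n₁ * h⁻¹, hhx ▸ hmk h n₁ hn₁, fun e => ?_, ?_⟩
    · rw [conj_eq_one_iff.1 e, orderOf_one] at hn₁ord
      exact hp.one_lt.ne hn₁ord
    · rw [mul_smul, mul_smul, inv_smul_eq_iff.2 hhy.symm, hn₁y, hhy]

open scoped commutatorElement in
/-- A nonabelian simple normal subgroup with trivial centraliser is the generalised Fitting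
subgroup. -/
theorem fStar_eq {G : Type*} [Group G] [Finite G] {N : Subgroup G} (hN : N.Normal)
    [IsSimpleGroup N] (hC : Subgroup.centralizer (N : Set G) = ⊥) :
    Cfsg.generalizedFittingSubgroup G = N := by
  haveI := hN
  haveI : Nontrivial N := IsSimpleGroup.toNontrivial
  have hN1 : N ≠ ⊥ := (Subgroup.nontrivial_iff_ne_bot N).1 inferInstance
  have hperf : Group.IsPerfect N := by
    rw [Group.isPerfect_def]
    refine ((inferInstance : (commutator N).Normal).eq_bot_or_eq_top).resolve_left fun h => hN1 ?_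
    rw [← le_bot_iff, ← hC]
    intro a ha
    rw [Subgroup.mem_centralizer_iff]
    intro b hb
    have h1 : ⁅(⟨b, hb⟩ : N), (⟨a, ha⟩ : N)⁆ = 1 := by
      rw [← Subgroup.mem_bot, ← h, commutator_def]
      exact Subgroup.commutator_mem_commutator (Subgroup.mem_top _) (Subgroup.mem_top _)
    exact congrArg Subtype.val (commutatorElement_eq_one_iff_mul_comm.1 h1)
  have hq : Cfsg.IsQuasisimple N := by
    haveI : IsSimpleGroup (N ⧸ Subgroup.center N) := by
      haveI : Nontrivial (N ⧸ Subgroup.center N) := by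
        rw [QuotientGroup.nontrivial_iff]
        intro h
        refine hN1 ?_
        rw [← le_bot_iff, ← hC]
        intro a ha
        rw [Subgroup.mem_centralizer_iff]
        intro b hb
        exact congrArg Subtype.val
          ((Subgroup.mem_center_iff.1 (h ▸ Subgroup.mem_top (⟨a, ha⟩ : N))) ⟨b, hb⟩)
      exact IsSimpleGroup.isSimpleGroup_of_surjective (QuotientGroup.mk' _)
        (QuotientGroup.mk'_surjective _)
    exact ⟨hperf, inferInstance⟩
  have hEN : Cfsg.layer G = N := by
    refine le_antisymm (sSup_le fun K hK => ?_) (le_sSup ⟨Subgroup.Normal.isSubnormal hN, hq⟩)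
    refine (CfsgLib.Coprime.component_le_or_commutator_eq_bot hK
      (Subgroup.Normal.isSubnormal hN)).resolve_right fun hc => ?_
    rw [Subgroup.commutator_eq_bot_iff_le_centralizer, hC, le_bot_iff] at hc
    haveI := CfsgLib.Coprime.nontrivial_of_isQuasisimple hK.2
    exact ((Subgroup.nontrivial_iff_ne_bot K).1 inferInstance) hc
  have hFb : Cfsg.fittingSubgroup G = ⊥ := by
    have h := CfsgLib.Coprime.fitting_le_centralizer_layer (G := G)
    rw [hEN, hC, le_bot_iff] at h
    exact h
  rw [Cfsg.generalizedFittingSubgroup, hFb, sup_bot_eq, hEN]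

end CfsgLib.ONan
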