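import Cfsg.Agent.Lib.ONan.Count

/-!
# The lines of an O'Nan configuration satisfy Veblen's axiom

Two different lines through a point have different stabilisers in its group, so the group moves
them independently.
-/

set_option autoImplicit false
set_option linter.unusedSectionVars false
set_option linter.style.haveILetI false

namespace CfsgLib.ONan

universe u v

variable {G : Type u} {X : Type v} [Group G] [MulAction G X] [Finite G] [FaithfulSMul G X]
  [Finite X] (I : Config G X)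

namespace Config

/-- Veblen's axiom at a vertex where the two stabilisers differ. -/
theorem veblen {x u v p q : X} (hu : u ≠ x) (hv : v ≠ x) (hne : I.K x u ≠ I.K x v)
    (hp : p ∈ I.line x u) (hpx : p ≠ x) (hq : q ∈ I.line x v) (hqx : q ≠ x) :
    p ≠ q ∧ ∃ c ∈ I.line u v, c ∈ I.line p q := by
  classical
  have huv : u ≠ v := fun e => hne (e ▸ rfl)
  refine ⟨fun e => hne ?_, ?_⟩
  · rw [← I.K_eq_of_mem hu.symm hp hpx, e, I.K_eq_of_mem hv.symm hq hqx]
  haveI : Nontrivial X := ⟨⟨u, x, hu⟩⟩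
  obtain ⟨a₁, ha₁, h₁⟩ := I.trans_line hu.symm hp hpx
  have hq' : a₁⁻¹ • q ∈ I.line x v := I.smul_mem_line_self hv.symm (inv_mem ha₁) hq
  obtain ⟨c, hc, hcv⟩ := I.trans_line hv.symm hq' (I.smul_ne (inv_mem ha₁) hqx)
  -- the two stabilisers generate the group
  let φ : I.K x u × I.K x v →* G :=
    MonoidHom.noncommCoprod (I.K x u).subtype (I.K x v).subtype fun a b =>
      I.comm x a (I.K_le _ _ a.2) b (I.K_le _ _ b.2)
  have hφ : ∀ y, φ y = (y.1 : G) * y.2 := fun _ => rfl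
  have hle : φ.range ≤ I.N x := by
    rintro _ ⟨y, rfl⟩
    rw [hφ]
    exact mul_mem (I.K_le _ _ y.1.2) (I.K_le _ _ y.2.2)
  have hker : Nat.card φ.ker ≤ Nat.card (I.K x u ⊓ I.K x v : Subgroup G) := by
    have hk : ∀ y : φ.ker, (y.1.2 : G) = (y.1.1 : G)⁻¹ := fun y =>
      (inv_eq_of_mul_eq_one_right ((hφ y.1).symm.trans y.2)).symm
    refine Nat.card_le_card_of_injective (fun y : φ.ker =>
      (⟨(y.1.1 : G), y.1.1.2, by
        have := inv_mem y.1.2.2
        rwa [hk y, inv_inv] at this⟩ : (I.K x u ⊓ I.K x v : Subgroup G))) fun y y' e => ?_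
    have e' : (y.1.1 : G) = y'.1.1 := by simpa using congrArg Subtype.val e
    exact Subtype.ext (Prod.ext (Subtype.ext e') (Subtype.ext (by rw [hk, hk, e'])))
  have hge : Nat.card (I.N x) ≤ Nat.card φ.range := by
    have e1 : Nat.card (I.K x u) * Nat.card (I.K x u) = Nat.card φ.range * Nat.card φ.ker := by
      rw [← Nat.card_congr (QuotientGroup.quotientKerEquivRange φ).toEquiv,
        ← Subgroup.card_eq_card_quotient_mul_card_subgroup, Nat.card_prod,
        I.card_K_eq hu.symm hv.symm]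
    have e2 := I.card_inf hu hv hne
    rw [I.card_N (w := u)]
    refine Nat.le_of_mul_le_mul_right (c := Nat.card (I.K x u ⊓ I.K x v : Subgroup G)) ?_
      Nat.card_pos
    calc I.orb x u * Nat.card (I.K x u) * Nat.card (I.K x u ⊓ I.K x v : Subgroup G)
        = Nat.card (I.K x u) * Nat.card (I.K x u) := by
          conv_rhs => arg 1; rw [← e2]
          ring
      _ = Nat.card φ.range * Nat.card φ.ker := e1
      _ ≤ _ := Nat.mul_le_mul_left _ hker
  obtain ⟨y, hy⟩ : c ∈ φ.range := (Subgroup.eq_of_le_of_card_ge hle hge).symm ▸ hc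
  set cu : G := (y.1 : G) with hcu
  set cv : G := (y.2 : G) with hcv'
  have hcuv : c = cu * cv := by rw [← hy, hφ]
  have ha : a₁ * cu ∈ I.N x := mul_mem ha₁ (I.K_le _ _ y.1.2)
  have hau : (a₁ * cu) • u = p := by rw [mul_smul, (I.mem_K.1 y.1.2).2, h₁]
  have hav : (a₁ * cu) • v = q := by
    have : cu • v = a₁⁻¹ • q := by
      rw [← hcv, hcuv, mul_smul, (I.mem_K.1 y.2.2).2]
    rw [mul_smul, this, smul_inv_smul]
  obtain ⟨w, hw, hfix⟩ := I.exists_fixed_on hu hv hne ha
  refine ⟨w, hw, ?_⟩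
  have h2 := (I.smul_mem_line (a₁ * cu)).2 hw
  rwa [hau, hav, hfix] at h2

theorem deg_sym {z y t : X} (hzy : z ≠ y) (htz : t ≠ z) (hty : t ≠ y) (hy : y ∉ I.line z t)
    (he : I.K z y = I.K z t) : I.K y z = I.K y t := by
  have h := I.card_stab_eq hzy htz hty hy (I.not_mem_of_not_mem htz hty hy)
  rw [← he, inf_idem, ← I.card_K_eq hzy hzy.symm] at h
  have h1 : I.K y z ⊓ MulAction.stabilizer G t = I.K y z :=
    Subgroup.eq_of_le_of_card_ge inf_le_left h.ge
  refine Subgroup.eq_of_le_of_card_ge (fun n hn => ?_) (I.card_K_eq hzy.symm hty.symm).le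
  rw [← h1] at hn
  exact I.mem_K.2 ⟨I.K_le _ _ hn.1, hn.2⟩

/-- Two different lines through a point have different stabilisers. -/
theorem nondeg {z y t : X} (hzy : z ≠ y) (htz : t ≠ z) (hty : t ≠ y) (hy : y ∉ I.line z t) :
    I.K z y ≠ I.K z t := by
  classical
  intro he
  haveI : Nontrivial X := ⟨⟨z, y, hzy⟩⟩
  obtain ⟨w, hwz, hwne⟩ := I.exists_K_ne hzy
  have hwne' : I.K z w ≠ I.K z t := he ▸ hwne
  have hwy : w ≠ y := fun e => hwne (e ▸ rfl)
  have hwt : w ≠ t := fun e => hwne' (e ▸ rfl)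
  have hw0 : w ∉ I.line y t := by
    intro hm
    refine hwne (Subgroup.eq_of_le_of_card_ge (fun n hn => ?_) (I.card_K_eq hwz.symm hzy).ge).symm
    refine I.mem_K.2 ⟨I.K_le _ _ hn, ?_⟩
    exact I.two_line (I.K_le _ _ hn) hty.symm (I.mem_K.1 hn).2 (I.mem_K.1 (he ▸ hn)).2 hm
  have hK1 : I.K y z = I.K y t := I.deg_sym hzy htz hty hy he
  have hKw : I.K w y ≠ I.K w t := by
    intro hc
    have hy' : y ∉ I.line w t := I.not_mem_of_not_mem hty hwt.symm hw0
    have h2 := I.deg_sym hwy hwt.symm hty hy' hc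
    have hz' : z ∉ I.line y w := by
      intro hm
      refine hwne (I.K_eq_of_mem hzy ?_ hwz)
      rw [I.line_eq hwy.symm hm (I.left_mem_line y w) hzy]
      exact I.right_mem_line hwy.symm
    exact hwne (I.deg_sym hzy.symm hwy hwz hz' (hK1.trans h2.symm)).symm
  set D := I.K z y ⊓ I.K z w
  -- a third point on the line from `w` to `t`
  obtain ⟨u', hu', hu'w, hu't⟩ : ∃ u' ∈ I.line w t, u' ≠ w ∧ u' ≠ t := by
    by_contra hcon
    push Not at hcon
    have hsub : I.pts w t ⊆ {w, t} := fun x hx => by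
      rw [Finset.mem_insert, Finset.mem_singleton]
      rcases eq_or_ne x w with h | h
      · exact Or.inl h
      · exact Or.inr (hcon x (I.mem_pts.1 hx) h)
    have := (Finset.card_le_card hsub).trans Finset.card_le_two
    rw [I.card_pts hwt] at this
    have := I.two_le_orb hwt
    omega
  have hzwt := I.not_mem_line_of_ne hwz htz hwne'
  have hu'z : u' ≠ z := fun e => hzwt (e ▸ hu')
  set R := I.K z u'
  -- facts on the line from `w` to `t`
  have hDR : D ≤ R := fun n hn => I.mem_K_of_fix hwne' hu' ⟨hn.2, he ▸ hn.1⟩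
  have hRw : R ⊓ I.K z w = D := by
    rw [I.pair_inf hwne' hu'w hu' (I.left_mem_line w t), ← he, inf_comm]
  have hRy : R ⊓ I.K z y = D := by
    rw [he, I.pair_inf hwne' hu't hu' (I.right_mem_line hwt), ← he, inf_comm]
  have hlt : Nat.card D < Nat.card R := by
    have h := I.card_inf_lt hzy.symm hwz (Ne.symm hwne)
    change 2 * Nat.card D ≤ _ at h
    have hR : Nat.card R = Nat.card (I.K z y) := I.card_K_eq hzy hu'z.symm
    have : 0 < Nat.card D := Nat.card_pos
    omega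
  obtain ⟨n, hnR, hnD⟩ : ∃ n ∈ R, n ∉ D := by
    by_contra hcon
    push Not at hcon
    exact absurd (Subgroup.card_le_of_le (show R ≤ D from hcon)) (by omega)
  obtain ⟨u, hu, hnu⟩ := I.exists_fixed_on hwz hzy.symm hwne (I.K_le _ _ hnR)
  have huw : u ≠ w := fun e => hnD (by
    rw [← hRw]; exact ⟨hnR, I.mem_K.2 ⟨I.K_le _ _ hnR, e ▸ hnu⟩⟩)
  have huy : u ≠ y := fun e => hnD (by
    rw [← hRy]; exact ⟨hnR, I.mem_K.2 ⟨I.K_le _ _ hnR, e ▸ hnu⟩⟩)
  have huz : u ≠ z := fun e => I.not_mem_line_of_ne hwz hzy.symm hwne (e ▸ hu)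
  have hDu : D ≤ I.K z u := fun m hm => I.mem_K_of_fix hwne hu ⟨hm.2, hm.1⟩
  have hRu : I.K z u = R := by
    by_contra hne
    have h1 := I.card_inf huz hu'z hne
    have h2 : Nat.card D * I.orb z y = Nat.card (I.K z y) := I.card_inf hzy.symm hwz (Ne.symm hwne)
    rw [I.orb_eq hzy huz.symm, I.card_K_eq hzy huz.symm] at h1
    have h3 : D = I.K z u ⊓ R := by
      refine Subgroup.eq_of_le_of_card_ge (le_inf hDu hDR) ?_
      exact (Nat.eq_of_mul_eq_mul_right (lt_of_lt_of_le two_pos (I.two_le_orb hzy))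
        (h1.trans h2.symm)).le
    exact hnD (h3.symm ▸ ⟨I.mem_K.2 ⟨I.K_le _ _ hnR, hnu⟩, hnR⟩)
  -- Veblen at `w`
  have hw_u : u ∈ I.line w y := hu
  obtain ⟨huu', c, hc, hc'⟩ := I.veblen hwy.symm hwt.symm hKw hw_u huw hu' hu'w
  have hcz : c ≠ z := by
    intro e
    subst e
    refine hy ?_
    rw [I.line_eq hty.symm hc (I.right_mem_line hty.symm) htz.symm]
    exact I.left_mem_line y t
  have hRc : R ≤ I.K z c := fun m hm => I.mem_K.2 ⟨I.K_le _ _ hm,
    I.two_line (I.K_le _ _ hm) huu' (I.mem_K.1 (hRu.symm ▸ hm)).2 (I.mem_K.1 hm).2 hc'⟩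
  have hyc : I.K z y ≤ I.K z c := fun m hm => I.mem_K.2 ⟨I.K_le _ _ hm,
    I.two_line (I.K_le _ _ hm) hty.symm (I.mem_K.1 hm).2 (I.mem_K.1 (he ▸ hm)).2 hc⟩
  have e1 : R = I.K z c :=
    Subgroup.eq_of_le_of_card_ge hRc (I.card_K_eq hu'z.symm hcz.symm).le
  have e2 : I.K z y = I.K z c :=
    Subgroup.eq_of_le_of_card_ge hyc (I.card_K_eq hzy hcz.symm).le
  rw [e1, e2, inf_idem] at hRy
  rw [e1, hRy] at hlt
  exact lt_irrefl _ hlt

theorem K_ne {z u v : X} (huv : u ≠ v) (hz : z ∉ I.line u v) : I.K z u ≠ I.K z v := by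
  have hu : u ≠ z := fun e => hz (e ▸ I.left_mem_line u v)
  have hv : v ≠ z := fun e => hz (e ▸ I.right_mem_line huv)
  refine I.nondeg hu.symm hv huv.symm fun h => hz ?_
  have := I.line_eq hv.symm h (I.right_mem_line hv.symm) huv
  exact this ▸ I.left_mem_line z v

end Config

end CfsgLib.ONan
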